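import Groth.Prelude.Def_EtRam
import Mathlib.FieldTheory.RatFunc.Basic
import Mathlib.FieldTheory.RatFunc.Degree
import Mathlib.FieldTheory.IsAlgClosed.Basic
import Mathlib.RingTheory.AdicCompletion.Completeness
import Mathlib.RingTheory.Henselian
import Mathlib.RingTheory.PowerSeries.Inverse
import Mathlib.RingTheory.Valuation.LocalSubring
import Mathlib.Algebra.CharP.Lemmas
import Mathlib.Algebra.Field.ZMod

/-!
# The concrete base of the refutation of the frozen statement S7162

`k = 𝔽₂(t)`, `A = k⟦X⟧`, `K = Frac A`.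

* `isAdicComplete`, `henselian`: for any field `k` the ring `k⟦X⟧` is a complete, henselian DVR;
* `exists_const`: every power series is congruent to a constant modulo the maximal ideal;
* `kk`, `AA`, `KK`, `tt`: the concrete objects, with `exists_sq_add_sq_mul`, `tt_ne_sq`, `no_root_kk`, `no_root_KK`;
* `exists_isIntegral_sub_lt`: the residues of a valuation subring of an algebraically closed field dominating `A` are
  residues of elements algebraic over `k`.

(`K` is `FractionRing A` and not `LaurentSeries k`: for the latter the two actions of `k` are not definitionally equal.)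
-/

set_option autoImplicit false
universe u

namespace Groth.Agent.Refuted.K284

open IsLocalRing Polynomial EtRam

/-! ### Power series over a field -/

section general

variable (k : Type u) [Field k]

instance isAdicComplete : IsAdicComplete (maximalIdeal (PowerSeries k)) (PowerSeries k) := by
  rw [PowerSeries.maximalIdeal_eq_span_X]
  infer_instance

instance henselian : HenselianLocalRing (PowerSeries k) where
  is_henselian := by
    intro f hf a₀ h₁ h₂
    exact HenselianRing.is_henselian (I := maximalIdeal (PowerSeries k)) f hf a₀ h₁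
      (h₂.map (Ideal.Quotient.mk (maximalIdeal (PowerSeries k))))

variable {k}

/-- every power series is congruent to a constant -/
theorem exists_const (a : PowerSeries k) :
    ∃ c : k, a - algebraMap k (PowerSeries k) c ∈ maximalIdeal (PowerSeries k) := by
  refine ⟨PowerSeries.constantCoeff a, ?_⟩
  rw [PowerSeries.maximalIdeal_eq_span_X, Ideal.mem_span_singleton, PowerSeries.X_dvd_iff]
  change PowerSeries.constantCoeff (a - PowerSeries.C (PowerSeries.constantCoeff a)) = 0
  simp

theorem irreducible_X : Irreducible (PowerSeries.X : PowerSeries k) :=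
  PowerSeries.X_prime.irreducible

instance charP (p : ℕ) [CharP k p] : CharP (PowerSeries k) p :=
  charP_of_injective_algebraMap (FaithfulSMul.algebraMap_injective k (PowerSeries k)) p

/-- A root in the fraction field of `k⟦X⟧` of a monic polynomial with constant coefficients: then there is a root in
`k`. -/
theorem exists_root_of_exists_root {K : Type*} [Field K] [Algebra (PowerSeries k) K]
    [IsFractionRing (PowerSeries k) K] (f : k[X]) (hf : f.Monic) (x : K)
    (hx : eval₂ ((algebraMap (PowerSeries k) K).comp (algebraMap k (PowerSeries k))) x f = 0) :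
    ∃ c : k, eval c f = 0 := by
  have h1 : IsIntegral (PowerSeries k) x := by
    refine ⟨f.map (algebraMap k (PowerSeries k)), hf.map _, ?_⟩
    rw [eval₂_map]
    exact hx
  obtain ⟨y, hy⟩ := IsIntegrallyClosed.isIntegral_iff.mp h1
  refine ⟨PowerSeries.constantCoeff y, ?_⟩
  have h2 : eval₂ (algebraMap k (PowerSeries k)) y f = 0 := by
    apply IsFractionRing.injective (PowerSeries k) K
    rw [map_zero, hom_eval₂, hy, hx]
  have h3 := congrArg PowerSeries.constantCoeff h2
  rw [map_zero, hom_eval₂] at h3
  have h4 : (PowerSeries.constantCoeff : PowerSeries k →+* k).comp (algebraMap k (PowerSeries k)) = RingHom.id k := by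
    ext c
    change PowerSeries.constantCoeff (PowerSeries.C c) = c
    simp
  rw [h4] at h3
  exact h3

end general

/-! ### The concrete fields -/

/-- `𝔽₂(t)` -/
abbrev kk : Type := RatFunc (ZMod 2)

/-- `𝔽₂(t)⟦X⟧` -/
abbrev AA : Type := PowerSeries kk

/-- the fraction field of `𝔽₂(t)⟦X⟧` -/
abbrev KK : Type := FractionRing AA

/-- the element `t` of `𝔽₂(t)` -/
noncomputable abbrev tt : kk := RatFunc.X

instance charP_kk : CharP kk 2 :=
  charP_of_injective_algebraMap (FaithfulSMul.algebraMap_injective (ZMod 2) kk) 2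

instance charP_KK : CharP KK 2 :=
  charP_of_injective_algebraMap (IsFractionRing.injective AA KK) 2

/-- every polynomial over `𝔽₂` is of the form `a² + b² t` -/
theorem exists_sq_poly (p : (ZMod 2)[X]) : ∃ a b : (ZMod 2)[X], p = a ^ 2 + b ^ 2 * X := by
  induction p using Polynomial.induction_on' with
  | add p q hp hq =>
    obtain ⟨a, b, h⟩ := hp
    obtain ⟨a', b', h'⟩ := hq
    refine ⟨a + a', b + b', ?_⟩
    rw [add_pow_char a a' 2, add_pow_char b b' 2, h, h']
    ring
  | monomial n c =>
    have hc : c ^ 2 = c := by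
      have : ∀ x : ZMod 2, x ^ 2 = x := by decide
      exact this c
    obtain ⟨m, hm⟩ := Nat.even_or_odd' n
    rcases hm with hm | hm
    · refine ⟨monomial m c, 0, ?_⟩
      rw [monomial_pow, hc, hm, Nat.mul_comm]
      simp
    · refine ⟨0, monomial m c, ?_⟩
      rw [monomial_pow, hc, hm, ← monomial_one_one_eq_X, monomial_mul_monomial, Nat.mul_comm]
      simp

/-- `k = k² + k² t` -/
theorem exists_sq_add_sq_mul (s : kk) : ∃ a b : kk, s = a ^ 2 + b ^ 2 * tt := by
  obtain ⟨a, b, hab⟩ := exists_sq_poly (s.num * s.denom)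
  have hd : algebraMap (ZMod 2)[X] kk s.denom ≠ 0 := RatFunc.algebraMap_ne_zero s.denom_ne_zero
  have h1 : s * algebraMap (ZMod 2)[X] kk s.denom = algebraMap _ kk s.num :=
    (div_eq_iff hd).mp (RatFunc.num_div_denom s) |>.symm
  have h2 : algebraMap (ZMod 2)[X] kk (s.num * s.denom) =
      (algebraMap _ kk a) ^ 2 + (algebraMap _ kk b) ^ 2 * tt := by
    rw [hab, map_add, map_mul, map_pow, map_pow, RatFunc.algebraMap_X]
  rw [map_mul, ← h1] at h2
  refine ⟨algebraMap _ kk a / algebraMap _ kk s.denom, algebraMap _ kk b / algebraMap _ kk s.denom, ?_⟩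
  rw [div_pow, div_pow, div_mul_eq_mul_div, ← add_div, ← h2, mul_assoc, ← pow_two]
  exact (mul_div_cancel_right₀ _ (pow_ne_zero 2 hd)).symm

/-- `t` is not a square in `k` -/
theorem tt_ne_sq (c : kk) : c ^ 2 ≠ tt := by
  intro h
  have hc : c ≠ 0 := by
    rintro rfl
    rw [zero_pow two_ne_zero] at h
    exact RatFunc.X_ne_zero h.symm
  have h1 : RatFunc.intDegree (c ^ 2) = 1 := by rw [h]; exact RatFunc.intDegree_X
  rw [pow_two, RatFunc.intDegree_mul hc hc] at h1
  omega

theorem no_root_kk (x : kk) : x ^ 2 + x + 1 ≠ 0 := by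
  intro h
  have h1 : IsIntegral (ZMod 2)[X] x := by
    refine ⟨X ^ 2 + X + 1, by monicity!, ?_⟩
    simpa using h
  obtain ⟨y, hy⟩ := IsIntegrallyClosed.isIntegral_iff.mp h1
  have h2 : y ^ 2 + y + 1 = 0 := by
    apply FaithfulSMul.algebraMap_injective (ZMod 2)[X] kk
    rw [map_zero, map_add, map_add, map_pow, hy, map_one, h]
  have h3 := congrArg (eval (0 : ZMod 2)) h2
  simp only [eval_add, eval_pow, eval_one, eval_zero] at h3
  have h4 : ∀ z : ZMod 2, z ^ 2 + z + 1 ≠ 0 := by decide
  exact h4 _ h3

theorem no_root_KK (x : KK) : x ^ 2 + x + 1 ≠ 0 := by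
  intro h
  obtain ⟨c, hc⟩ := exists_root_of_exists_root (k := kk) (X ^ 2 + X + 1) (by monicity!) x (by simpa using h)
  exact no_root_kk c (by simpa using hc)

/-! ### Residues -/

section residue

/-- The residues of a valuation subring `V` of an algebraically closed field `Ω` dominating `A` are residues of elements
of `Ω` algebraic over the field `k ⊆ A` of representatives. -/
theorem exists_isIntegral_sub_lt {k A Ω : Type u} [Field k] [CommRing A] [IsLocalRing A] [Algebra k A]
    (hk : ∀ a : A, ∃ c : k, a - algebraMap k A c ∈ maximalIdeal A)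
    [Field Ω] [IsAlgClosed Ω] [Algebra A Ω] [Algebra k Ω] [IsScalarTower k A Ω] (V : ValuationSubring Ω)
    (hV : Dominates A (algebraMap A Ω) V) (x : Ω) (hx : IsIntegral A x) :
    ∃ c : Ω, IsIntegral k c ∧ V.valuation (x - c) < 1 := by
  classical
  obtain ⟨f, hf, hfx⟩ := hx
  choose r hr using hk
  have hmem : ∀ y : Ω, IsIntegral A y → y ∈ V := by
    rintro y ⟨h, hh, hhy⟩
    have hV' : IsIntegrallyClosed V := inferInstanceAs (IsIntegrallyClosed V.toSubring)
    have h1 : IsIntegral V y := by
      refine ⟨h.map ((algebraMap A Ω).codRestrict V hV.1), hh.map _, ?_⟩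
      rw [eval₂_map]
      exact hhy
    obtain ⟨z, hz⟩ := hV'.isIntegral_iff.mp h1
    rw [← hz]
    exact z.2
  have hxV : x ∈ V := hmem x ⟨f, hf, hfx⟩
  have hmemk : ∀ y : Ω, IsIntegral k y → y ∈ V := fun y hy => hmem y hy.tower_top
  set n := f.natDegree with hn
  let g : k[X] := X ^ n + ∑ i ∈ Finset.range n, C (r (f.coeff i)) * X ^ i
  have hg : g.Monic := by
    refine monic_X_pow_add ?_
    refine mem_degreeLT.mp (Submodule.sum_mem _ fun i hi => mem_degreeLT.mpr ?_)
    exact (degree_C_mul_X_pow_le i _).trans_lt (WithBot.coe_lt_coe.mpr (Finset.mem_range.mp hi))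
  have hgx : V.valuation (aeval x g) < 1 := by
    have h0 : x ^ n + ∑ i ∈ Finset.range n, algebraMap A Ω (f.coeff i) * x ^ i = 0 := by
      rw [eval₂_eq_sum_range, Finset.sum_range_succ, ← hn, show f.coeff n = 1 from hf, map_one, one_mul,
        add_comm] at hfx
      exact hfx
    have h1 : aeval x g = - ∑ i ∈ Finset.range n, algebraMap A Ω (f.coeff i - algebraMap k A (r (f.coeff i))) * x ^ i := by
      have h2 : aeval x g = x ^ n + ∑ i ∈ Finset.range n, algebraMap A Ω (algebraMap k A (r (f.coeff i))) * x ^ i := by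
        simp only [g, map_add, map_pow, aeval_X, map_sum, map_mul, aeval_C, ← IsScalarTower.algebraMap_apply]
      rw [h2, ← sub_eq_zero, sub_neg_eq_add, add_assoc, ← Finset.sum_add_distrib, ← h0]
      congr 1
      refine Finset.sum_congr rfl fun i _ => ?_
      rw [map_sub]
      ring
    rw [h1, Valuation.map_neg]
    refine Valuation.map_sum_lt _ one_ne_zero fun i _ => ?_
    rw [map_mul]
    refine mul_lt_one_of_lt_of_le (hV.2 _ (hr _)) ?_
    exact (V.valuation_le_one_iff _).mpr (V.pow_mem hxV i)
  have hspl : (g.map (algebraMap k Ω)).Splits := IsAlgClosed.splits _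
  have h1 := hspl.aeval_eq_prod_aroots_of_monic hg x
  by_contra hcon
  push Not at hcon
  have h2 : ∀ c ∈ g.aroots Ω, V.valuation (x - c) = 1 := by
    intro c hc
    have hci : IsIntegral k c := ⟨g, hg, (mem_aroots.mp hc).2⟩
    refine le_antisymm ?_ (hcon c hci)
    exact (V.valuation_le_one_iff _).mpr (V.sub_mem hxV (hmemk c hci))
  rw [h1, map_multiset_prod, Multiset.map_map] at hgx
  have h3 : (Multiset.map (⇑V.valuation ∘ fun c => x - c) (g.aroots Ω)).prod = 1 := by
    refine Multiset.prod_eq_one fun y hy => ?_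
    obtain ⟨c, hc, rfl⟩ := Multiset.mem_map.mp hy
    exact h2 c hc
  rw [h3] at hgx
  exact lt_irrefl _ hgx

end residue

end Groth.Agent.Refuted.K284
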