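import Mathlib.FieldTheory.PurelyInseparable.PerfectClosure
import Mathlib.FieldTheory.SeparableClosure
import Mathlib.RingTheory.Polynomial.SeparableDegree
import Mathlib.Algebra.CharP.Lemmas

/-!
# The algebraic closure of a field of `p`-rank one

`k ⊆ Ω` fields of characteristic `p`, `k = k^p[t]`. If `T m` is a system of `p^m`-th roots of `t` in `Ω`, then
every element of `Ω` algebraic over `k` is in `F[T m]` for some `m`, where `F` is the separable closure of `k` in `Ω`
(`exists_mem_adjoin_of_isIntegral`); in particular it is in every subfield containing `F` and all `T m`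
(`mem_of_isIntegral`).
-/

set_option autoImplicit false
universe u

namespace Groth.Agent.Refuted.K284

open Polynomial

/-- The subring `S^p[t]` generated by `t` and the `p`-th powers of the elements of `S`. -/
def powSubring (p : ℕ) {R : Type*} [CommRing R] (S : Set R) (t : R) : Subring R :=
  Subring.closure ({y | ∃ b ∈ S, b ^ p = y} ∪ {t})

theorem pow_mem_powSubring {p : ℕ} {R : Type*} [CommRing R] {S : Set R} {t : R} {b : R} (hb : b ∈ S) :
    b ^ p ∈ powSubring p S t := Subring.subset_closure (Or.inl ⟨b, hb, rfl⟩)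

theorem mem_powSubring {p : ℕ} {R : Type*} [CommRing R] {S : Set R} {t : R} :
    t ∈ powSubring p S t := Subring.subset_closure (Or.inr rfl)

theorem map_mem_powSubring {p : ℕ} {R R' : Type*} [CommRing R] [CommRing R'] (φ : R →+* R') {S : Set R} {t : R}
    {S' : Set R'} (hS : ∀ x ∈ S, φ x ∈ S') {x : R} (hx : x ∈ powSubring p S t) : φ x ∈ powSubring p S' (φ t) := by
  have h1 : powSubring p S t ≤ (powSubring p S' (φ t)).comap φ := by
    refine Subring.closure_le.mpr ?_
    rintro y (⟨b, hb, rfl⟩ | rfl)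
    · change φ (b ^ p) ∈ powSubring p S' (φ t)
      rw [map_pow]
      exact pow_mem_powSubring (hS b hb)
    · exact mem_powSubring
  exact h1 hx

section

variable (p : ℕ) [hp : Fact p.Prime] {k Ω : Type u} [Field k] [Field Ω] [Algebra k Ω] [CharP Ω p] [CharP k p]

/-- `x ∈ k(x)^p[t]` for `x` separable over `k = k^p[t]` -/
theorem mem_powSubring_of_isSeparable {t : k} (hk : ∀ s : k, s ∈ powSubring p Set.univ t) (x : Ω)
    (hx : IsSeparable k x) (E : Subfield Ω) (hE : ∀ c : k, algebraMap k Ω c ∈ E) (hxE : x ∈ E) :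
    x ∈ powSubring p (E : Set Ω) (algebraMap k Ω t) := by
  haveI : ExpChar k p := ExpChar.prime hp.out
  have h1 : x ∈ IntermediateField.adjoin k {x ^ p ^ 1} := by
    rw [← IntermediateField.adjoin_simple_eq_adjoin_pow_expChar_pow_of_isSeparable k Ω hx p 1]
    exact IntermediateField.mem_adjoin_simple_self k x
  rw [pow_one] at h1
  have h2 : IsAlgebraic k (x ^ p) := (hx.isIntegral.pow p).isAlgebraic
  rw [← IntermediateField.mem_toSubalgebra, IntermediateField.adjoin_simple_toSubalgebra_of_isAlgebraic h2] at h1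
  suffices h3 : ∀ y ∈ Algebra.adjoin k {x ^ p}, y ∈ powSubring p (E : Set Ω) (algebraMap k Ω t) from h3 x h1
  intro y hy
  induction hy using Algebra.adjoin_induction with
  | mem y hy =>
    rw [Set.mem_singleton_iff] at hy
    subst hy
    exact pow_mem_powSubring hxE
  | algebraMap c => exact map_mem_powSubring (algebraMap k Ω) (fun y _ => hE y) (hk c)
  | add y z _ _ hy hz => exact add_mem hy hz
  | mul y z _ _ hy hz => exact mul_mem hy hz

/-- adjoining a `p`-th root of `t`: if `F ⊆ F^p[T 0]`, every element of `F[T m]` is a `p`-th power of an element of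
`F[T (m + 1)]` -/
theorem exists_pow_eq_of_mem_adjoin (F : Subfield Ω) (T : ℕ → Ω) (hT : ∀ m, T (m + 1) ^ p = T m)
    (hF : ∀ a ∈ F, a ∈ powSubring p (F : Set Ω) (T 0)) (m : ℕ) (d : Ω) (hd : d ∈ Algebra.adjoin F {T m}) :
    ∃ e ∈ Algebra.adjoin F {T (m + 1)}, e ^ p = d := by
  have hself : ∀ n, T n ∈ Algebra.adjoin F {T n} := fun n => Algebra.self_mem_adjoin_singleton F (T n)
  have h1 : T 1 ∈ Algebra.adjoin F {T (m + 1)} := by
    clear hd
    induction m with
    | zero => exact hself 1
    | succ n ih =>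
      refine (Algebra.adjoin_le ?_ : Algebra.adjoin F {T (n + 1)} ≤ _) ih
      rw [Set.singleton_subset_iff, ← hT (n + 1)]
      exact pow_mem (hself _) p
  have hadd : ∀ a b : Ω, (a + b) ^ p = a ^ p + b ^ p := fun a b => add_pow_char a b p
  induction hd using Algebra.adjoin_induction with
  | mem y hy =>
    rw [Set.mem_singleton_iff] at hy
    subst hy
    exact ⟨T (m + 1), hself _, hT m⟩
  | algebraMap c =>
    have hc := hF c c.2
    change ∃ e ∈ Algebra.adjoin F {T (m + 1)}, e ^ p = (c : Ω)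
    generalize (c : Ω) = y at hc
    induction hc using Subring.closure_induction with
    | mem y hy =>
      rcases hy with ⟨b, hb, rfl⟩ | rfl
      · exact ⟨b, Subalgebra.algebraMap_mem _ (⟨b, hb⟩ : F), rfl⟩
      · exact ⟨T 1, h1, hT 0⟩
    | zero => exact ⟨0, zero_mem _, zero_pow hp.out.ne_zero⟩
    | one => exact ⟨1, one_mem _, one_pow p⟩
    | add y z _ _ hy hz =>
      obtain ⟨e, he, rfl⟩ := hy
      obtain ⟨e', he', rfl⟩ := hz
      exact ⟨e + e', add_mem he he', hadd e e'⟩
    | neg y _ hy =>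
      obtain ⟨e, he, rfl⟩ := hy
      refine ⟨-e, neg_mem he, ?_⟩
      have := hadd e (-e)
      rw [add_neg_cancel, zero_pow hp.out.ne_zero] at this
      exact (neg_eq_of_add_eq_zero_right this.symm).symm
    | mul y z _ _ hy hz =>
      obtain ⟨e, he, rfl⟩ := hy
      obtain ⟨e', he', rfl⟩ := hz
      exact ⟨e * e', mul_mem he he', mul_pow e e' p⟩
  | add y z _ _ hy hz =>
    obtain ⟨e, he, rfl⟩ := hy
    obtain ⟨e', he', rfl⟩ := hz
    exact ⟨e + e', add_mem he he', hadd e e'⟩
  | mul y z _ _ hy hz =>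
    obtain ⟨e, he, rfl⟩ := hy
    obtain ⟨e', he', rfl⟩ := hz
    exact ⟨e * e', mul_mem he he', mul_pow e e' p⟩

theorem mem_adjoin_of_pow_mem_adjoin (F : Subfield Ω) (T : ℕ → Ω) (hT : ∀ m, T (m + 1) ^ p = T m)
    (hF : ∀ a ∈ F, a ∈ powSubring p (F : Set Ω) (T 0)) (n : ℕ) :
    ∀ (m : ℕ) (c : Ω), c ^ p ^ n ∈ Algebra.adjoin F {T m} → c ∈ Algebra.adjoin F {T (m + n)} := by
  induction n with
  | zero =>
    intro m c hc
    simpa using hc
  | succ n ih =>
    intro m c hc
    rw [pow_succ', pow_mul] at hc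
    obtain ⟨e, he, hec⟩ := exists_pow_eq_of_mem_adjoin p F T hT hF (m + n) _ (ih m _ hc)
    have h1 : e = c := frobenius_inj Ω p hec
    rw [← h1]
    exact he

/-- every element of `Ω` integral over `k = k^p[t]` is in `F[T m]` for some `m`, `F` the separable closure of `k` -/
theorem exists_mem_adjoin_of_isIntegral {t : k} (hk : ∀ s : k, s ∈ powSubring p Set.univ t) (T : ℕ → Ω)
    (hT0 : T 0 = algebraMap k Ω t) (hT : ∀ m, T (m + 1) ^ p = T m) (F : Subfield Ω)
    (hF : ∀ x : Ω, x ∈ F ↔ IsSeparable k x) (c : Ω) (hc : IsIntegral k c) :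
    ∃ m, c ∈ Algebra.adjoin F {T m} := by
  haveI : ExpChar k p := ExpChar.prime hp.out
  have hkF : ∀ s : k, algebraMap k Ω s ∈ F := fun s => (hF _).mpr (isSeparable_algebraMap s)
  have hF' : ∀ a ∈ F, a ∈ powSubring p (F : Set Ω) (T 0) := by
    intro a ha
    rw [hT0]
    exact mem_powSubring_of_isSeparable p hk a ((hF a).mp ha) F hkF ha
  obtain ⟨g, hg, n, hgn⟩ := (minpoly.irreducible hc).hasSeparableContraction p
  have h1 : IsSeparable k (c ^ p ^ n) := by
    refine hg.of_dvd (minpoly.dvd k _ ?_)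
    have h2 : aeval c (minpoly k c) = 0 := minpoly.aeval k c
    rw [← hgn, expand_aeval] at h2
    exact h2
  refine ⟨0 + n, mem_adjoin_of_pow_mem_adjoin p F T hT hF' n 0 c ?_⟩
  exact Subalgebra.algebraMap_mem _ (⟨_, (hF _).mpr h1⟩ : F)

/-- every subfield of `Ω` containing the elements separable over `k = k^p[t]` and a system of `p^m`-th roots of `t`
contains all elements algebraic over `k` -/
theorem mem_of_isIntegral {t : k} (hk : ∀ s : k, s ∈ powSubring p Set.univ t) (T : ℕ → Ω)
    (hT0 : T 0 = algebraMap k Ω t) (hT : ∀ m, T (m + 1) ^ p = T m) (E : Subfield Ω)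
    (hE : ∀ x : Ω, IsSeparable k x → x ∈ E) (hTE : ∀ m, T m ∈ E) (c : Ω) (hc : IsIntegral k c) : c ∈ E := by
  obtain ⟨m, hm⟩ := exists_mem_adjoin_of_isIntegral p hk T hT0 hT (separableClosure k Ω).toSubfield
    (fun x => mem_separableClosure_iff) c hc
  clear hc
  induction hm using Algebra.adjoin_induction with
  | mem y hy =>
    rw [Set.mem_singleton_iff] at hy
    subst hy
    exact hTE m
  | algebraMap c => exact hE _ (mem_separableClosure_iff.mp c.2)
  | add y z _ _ hy hz => exact add_mem hy hz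
  | mul y z _ _ hy hz => exact mul_mem hy hz

end

end Groth.Agent.Refuted.K284
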